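import Mathlib
import Cfsg.Agent.H81.ExDefs

set_option autoImplicit false

namespace Cfsg.Agent.H47.Ex

universe u

theorem lin : Cfsg.Agent.H81.Ex.StLin.{u} := by
  intro Z _ _ A _ _ ρ ξ A₁ a hsq _hA2 hcomm ha hA₁ hξ hc hinv hH
  classical
  -- pointwise facts
  have inv_eq : ∀ z : Z, z⁻¹ = z := fun z => inv_eq_of_mul_eq_one_left (hsq z)
  have hsq' : ∀ z w : Z, z * (z * w) = w := fun z w => by rw [← mul_assoc, hsq, one_mul]
  have eq_of_mul : ∀ z w : Z, z * w = 1 → z = w := fun z w h =>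
    (mul_eq_one_iff_eq_inv.mp h).trans (inv_eq w)
  have ξ3 : ∀ z : Z, ξ (ξ (ξ z)) = z := fun z => by
    have := congrArg (fun f : MulAut Z => f z) hξ
    simpa [MulAut.mul_apply] using this
  have ξinv : ∀ z : Z, ξ⁻¹ z = ξ (ξ z) := fun z => by
    apply ξ.injective
    rw [ξ3]
    simp
  have αξ : ∀ z : Z, ρ a (ξ z) = ξ (ξ (ρ a z)) := fun z => by
    have := congrArg (fun f : MulAut Z => f z) hinv
    simp only [MulAut.mul_apply] at this
    rw [this, ξinv]
  have bξ : ∀ b ∈ A₁, ∀ z : Z, ρ b (ξ z) = ξ (ρ b z) := fun b hb z => by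
    have := congrArg (fun f : MulAut Z => f z) (hc b hb)
    simpa [MulAut.mul_apply] using this
  have ρmul : ∀ b c : A, ∀ z : Z, ρ (b * c) z = ρ b (ρ c z) := fun b c z => by
    rw [map_mul]; rfl
  have ρcomm : ∀ b c : A, ∀ z : Z, ρ b (ρ c z) = ρ c (ρ b z) := fun b c z => by
    rw [← ρmul, ← ρmul, hcomm]
  -- the set W
  set inW : Z → Prop := fun z => ∃ y : Z, ξ y * y⁻¹ = z with hinW
  have W1 : inW 1 := ⟨1, by simp⟩
  have Wmul : ∀ z z' : Z, inW z → inW z' → inW (z * z') := by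
    rintro _ _ ⟨y, rfl⟩ ⟨y', rfl⟩
    refine ⟨y * y', ?_⟩
    rw [map_mul, mul_inv]
    exact mul_mul_mul_comm _ _ _ _
  have Wξ : ∀ z : Z, inW z → inW (ξ z) := by
    rintro _ ⟨y, rfl⟩
    exact ⟨ξ y, by rw [map_mul, map_inv]⟩
  have Wb : ∀ b ∈ A₁, ∀ z : Z, inW z → inW (ρ b z) := by
    rintro b hb _ ⟨y, rfl⟩
    exact ⟨ρ b y, by rw [map_mul, map_inv, bξ b hb]⟩
  have Wα : ∀ z : Z, inW z → inW (ρ a z) := by
    rintro _ ⟨y, rfl⟩
    refine ⟨ξ (ρ a y) * ρ a y, ?_⟩
    simp only [map_mul, map_inv, αξ, inv_eq]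
    simp only [mul_comm, mul_left_comm, mul_assoc, hsq, hsq', mul_one]
  have fpf : ∀ w : Z, inW w → ξ w = w → w = 1 := by
    rintro _ ⟨y, rfl⟩ h
    have tel : (ξ y * y⁻¹) * ξ (ξ y * y⁻¹) * ξ (ξ (ξ y * y⁻¹)) = 1 := by
      simp only [map_mul, map_inv, inv_eq, ξ3]
      simp only [mul_comm, mul_left_comm, mul_assoc, hsq, hsq', mul_one]
    rw [h, h, hsq, one_mul] at tel
    exact tel
  have key : ∀ x x' : Z, ρ a x = x → inW x' → ρ a x' = x' →
      ρ a (x * ξ x') = x * ξ x' → x' = 1 := by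
    intro x x' hx hW hx' h
    rw [map_mul, hx, αξ, hx'] at h
    have h1 : ξ (ξ x') = ξ x' := mul_left_cancel h
    exact fpf x' hW (ξ.injective h1)
  -- |A| ≤ 2 |A₁|
  have cardA : Nat.card A ≤ 2 * Nat.card ↥A₁ := by
    have hinj : Function.Injective (fun b : A =>
        if h : b ∈ A₁ then ((true, ⟨b, h⟩) : Bool × ↥A₁)
        else (false, ⟨a⁻¹ * b, (hA₁ b).resolve_left h⟩)) := by
      intro b c hbc
      by_cases hb : b ∈ A₁ <;> by_cases hc' : c ∈ A₁ <;> simp [hb, hc'] at hbc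
      · exact hbc
      · exact hbc
    have := Nat.card_le_card_of_injective _ hinj
    rwa [Nat.card_prod, Nat.card_eq_fintype_card (α := Bool), Fintype.card_bool] at this
  have posA₁ : 0 < Nat.card ↥A₁ := Nat.card_pos
  have posCA : 0 < Nat.card {z : Z // ∀ b : A, ρ b z = z} := by
    haveI : Nonempty {z : Z // ∀ b : A, ρ b z = z} := ⟨⟨1, fun b => map_one _⟩⟩
    exact Nat.card_pos
  -- |C(A₁)| ≤ 2 |C(A)|
  have cardCA₁ : Nat.card {z : Z // ∀ b ∈ A₁, ρ b z = z} ≤
      2 * Nat.card {z : Z // ∀ b : A, ρ b z = z} := by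
    have h1 := hH A₁
    have h2 : Nat.card ↥A₁ * Nat.card {z : Z // ∀ b ∈ A₁, ρ b z = z} ≤
        Nat.card ↥A₁ * (2 * Nat.card {z : Z // ∀ b : A, ρ b z = z}) := by
      calc _ ≤ Nat.card A * Nat.card {z : Z // ∀ b : A, ρ b z = z} := h1
        _ ≤ (2 * Nat.card ↥A₁) * Nat.card {z : Z // ∀ b : A, ρ b z = z} :=
            Nat.mul_le_mul_right _ cardA
        _ = _ := by ring
    exact Nat.le_of_mul_le_mul_left h2 posA₁
  -- main step: W₀ is fixed by A₁
  have main : ∀ v : Z, inW v → ρ a v = v → ∀ b ∈ A₁, ρ b v = v := by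
    intro v hvW hvα
    by_contra hcon
    simp only [not_forall] at hcon
    obtain ⟨b₀, hb₀, hb₀v⟩ := hcon
    letI act : MulAction ↥A₁ Z :=
      { smul := fun b z => ρ (b : A) z
        one_smul := fun z => by show ρ ((1 : ↥A₁) : A) z = z; simp
        mul_smul := fun b c z => by
          show ρ ((b * c : ↥A₁) : A) z = ρ (b : A) (ρ (c : A) z)
          rw [Subgroup.coe_mul, ρmul] }
    set St : Subgroup ↥A₁ := MulAction.stabilizer ↥A₁ v with hSt
    set B : Subgroup A := St.map A₁.subtype with hB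
    have hBmem : ∀ b ∈ B, b ∈ A₁ ∧ ρ b v = v := by
      rintro b ⟨x, hx, rfl⟩
      refine ⟨x.2, ?_⟩
      have : x • v = v := MulAction.mem_stabilizer_iff.mp hx
      exact this
    have cardB : Nat.card ↥B = Nat.card ↥St :=
      (Nat.card_congr (St.equivMapOfInjective A₁.subtype
        (Subgroup.subtype_injective _)).toEquiv).symm
    have horb : Nat.card ↥A₁ = Nat.card ↥St * (MulAction.orbit ↥A₁ v).ncard := by
      rw [← MulAction.index_stabilizer, Subgroup.card_mul_index]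
    -- S ⊇ orbit ∪ {1}
    set Sset : Set Z := {z | (inW z ∧ ρ a z = z) ∧ ∀ b ∈ B, ρ b z = z} with hSset
    have hSmem : ∀ z ∈ Sset, (inW z ∧ ρ a z = z) ∧ ∀ b ∈ B, ρ b z = z := fun z hz => hz
    have hsub : MulAction.orbit ↥A₁ v ⊂ Sset := by
      refine ⟨?_, ?_⟩
      · rintro _ ⟨b', rfl⟩
        show (inW (ρ (b' : A) v) ∧ ρ a (ρ (b' : A) v) = ρ (b' : A) v) ∧
          ∀ b ∈ B, ρ b (ρ (b' : A) v) = ρ (b' : A) v
        refine ⟨⟨Wb _ b'.2 _ hvW, by rw [ρcomm, hvα]⟩, fun b hb => ?_⟩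
        rw [ρcomm, (hBmem b hb).2]
      · intro hss
        have h1 : (1 : Z) ∈ Sset := ⟨⟨W1, map_one _⟩, fun b _ => map_one _⟩
        obtain ⟨b', hb'⟩ := hss h1
        have hb'' : ρ (b' : A) v = 1 := hb'
        have hv1 : v = 1 :=
          (ρ (b' : A)).injective (hb''.trans (map_one (ρ (b' : A))).symm)
        exact hb₀v (by rw [hv1, map_one])
    have hlt : (MulAction.orbit ↥A₁ v).ncard < Nat.card ↥Sset := by
      rw [Nat.card_coe_set_eq]
      exact Set.ncard_lt_ncard hsub (Set.toFinite _)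
    -- injection Bool × C(A) × S → C(B)
    have hvCA : ¬ ∀ b : A, ρ b v = v := fun h => hb₀v (h b₀)
    set ev : Bool → Z := fun e => if e then v else 1 with hev
    have evα : ∀ e, ρ a (ev e) = ev e := by
      intro e; cases e
      · exact map_one _
      · exact hvα
    have evB : ∀ e, ∀ b ∈ B, ρ b (ev e) = ev e := by
      intro e b hb; cases e
      · exact map_one _
      · exact (hBmem b hb).2
    have evne : ∀ e e₂ : Bool, e ≠ e₂ → ev e * ev e₂ = v := by
      intro e e₂ hne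
      cases e <;> cases e₂ <;> simp [hev] at hne ⊢
    have evsq : ∀ e : Bool, ev e * ev e = 1 := fun e => hsq _
    have hinj : Function.Injective (fun p : Bool × {z : Z // ∀ b : A, ρ b z = z} × ↥Sset =>
        (⟨p.2.1.1 * ev p.1 * ξ p.2.2.1, by
          intro b hb
          rw [map_mul, map_mul, p.2.1.2 b, evB p.1 b hb, bξ b (hBmem b hb).1,
            (hSmem _ p.2.2.2).2 b hb]⟩ : {z : Z // ∀ b ∈ B, ρ b z = z})) := by
      rintro ⟨e, ⟨c, hc⟩, ⟨u, hu⟩⟩ ⟨e₂, ⟨c₂, hc₂⟩, ⟨u₂, hu₂⟩⟩ h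
      have h0 : c * ev e * ξ u = c₂ * ev e₂ * ξ u₂ := congrArg Subtype.val h
      have hu' := hSmem u hu
      have hu₂' := hSmem u₂ hu₂
      have h1 : (ev e * ev e₂) * ξ (u * u₂) = c * c₂ := by
        have e1 : (ev e * ev e₂) * ξ (u * u₂) = c * (c * ev e * ξ u) * (ev e₂ * ξ u₂) := by
          rw [map_mul]
          simp only [mul_comm, mul_left_comm, mul_assoc, hsq, hsq', mul_one]
        rw [e1, h0]
        simp only [mul_comm, mul_left_comm, mul_assoc, hsq, hsq', mul_one]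
      have hx' : u * u₂ = 1 := by
        apply key (ev e * ev e₂) (u * u₂) (by rw [map_mul, evα, evα])
          (Wmul _ _ hu'.1.1 hu₂'.1.1) (by rw [map_mul, hu'.1.2, hu₂'.1.2])
        rw [h1, map_mul, hc a, hc₂ a]
      have huu : u = u₂ := eq_of_mul _ _ hx'
      rw [hx', map_one, mul_one] at h1
      have hee : e = e₂ := by
        by_contra hne
        apply hvCA
        intro b
        rw [← evne e e₂ hne, h1, map_mul, hc b, hc₂ b]
      have hcc : c = c₂ := by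
        apply eq_of_mul
        rw [← h1, hee, evsq]
      simp only [Prod.mk.injEq, Subtype.mk.injEq]
      exact ⟨hee, hcc, huu⟩
    have hcardinj := Nat.card_le_card_of_injective _ hinj
    rw [Nat.card_prod, Nat.card_prod, Nat.card_eq_fintype_card (α := Bool),
      Fintype.card_bool] at hcardinj
    have hHB := hH B
    -- arithmetic
    have posB : 0 < Nat.card ↥St := Nat.card_pos
    rw [cardB] at hHB
    have h5 : (2 * Nat.card ↥St * Nat.card {z : Z // ∀ b : A, ρ b z = z}) * Nat.card ↥Sset ≤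
        (2 * Nat.card ↥St * Nat.card {z : Z // ∀ b : A, ρ b z = z}) *
          (MulAction.orbit ↥A₁ v).ncard := by
      calc (2 * Nat.card ↥St * Nat.card {z : Z // ∀ b : A, ρ b z = z}) * Nat.card ↥Sset
          = Nat.card ↥St * (2 * (Nat.card {z : Z // ∀ b : A, ρ b z = z} * Nat.card ↥Sset)) := by
            ring
        _ ≤ Nat.card ↥St * Nat.card {z : Z // ∀ b ∈ B, ρ b z = z} :=
            Nat.mul_le_mul_left _ hcardinj
        _ ≤ Nat.card A * Nat.card {z : Z // ∀ b : A, ρ b z = z} := hHB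
        _ ≤ (2 * Nat.card ↥A₁) * Nat.card {z : Z // ∀ b : A, ρ b z = z} :=
            Nat.mul_le_mul_right _ cardA
        _ = _ := by rw [horb]; ring
    have h6 : Nat.card ↥Sset ≤ (MulAction.orbit ↥A₁ v).ncard :=
      Nat.le_of_mul_le_mul_left h5 (by positivity)
    omega
  -- W₀ is fixed by all of A
  have mainA : ∀ v : Z, inW v → ρ a v = v → ∀ b : A, ρ b v = v := by
    intro v hvW hvα b
    rcases hA₁ b with hb | hb
    · exact main v hvW hvα b hb
    · have : b = a * (a⁻¹ * b) := by group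
      rw [this, ρmul, main v hvW hvα _ hb, hvα]
  -- |W₀| ≤ 2
  have cardW₀ : Nat.card {z : Z // inW z ∧ ρ a z = z} ≤ 2 := by
    have hinj : Function.Injective (fun p : {z : Z // ∀ b : A, ρ b z = z} ×
        {z : Z // inW z ∧ ρ a z = z} =>
        (⟨p.1.1 * ξ p.2.1, by
          intro b hb
          rw [map_mul, p.1.2 b, bξ b hb, mainA _ p.2.2.1 p.2.2.2 b]⟩ :
          {z : Z // ∀ b ∈ A₁, ρ b z = z})) := by
      rintro ⟨⟨c, hc⟩, ⟨u, hu⟩⟩ ⟨⟨c₂, hc₂⟩, ⟨u₂, hu₂⟩⟩ h
      have h0 : c * ξ u = c₂ * ξ u₂ := congrArg Subtype.val h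
      have h1 : ξ (u * u₂) = c * c₂ := by
        have e1 : ξ (u * u₂) = c * (c * ξ u) * ξ u₂ := by
          rw [map_mul]
          simp only [mul_comm, mul_left_comm, mul_assoc, hsq, hsq', mul_one]
        rw [e1, h0]
        simp only [mul_comm, mul_left_comm, mul_assoc, hsq, hsq', mul_one]
      have hx' : u * u₂ = 1 := by
        apply key 1 (u * u₂) (map_one _) (Wmul _ _ hu.1 hu₂.1) (by rw [map_mul, hu.2, hu₂.2])
        rw [one_mul, h1, map_mul, hc a, hc₂ a]
      have huu : u = u₂ := eq_of_mul _ _ hx'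
      rw [hx', map_one] at h1
      have hcc : c = c₂ := eq_of_mul _ _ h1.symm
      simp only [Prod.mk.injEq, Subtype.mk.injEq]
      exact ⟨hcc, huu⟩
    have h1 := Nat.card_le_card_of_injective _ hinj
    rw [Nat.card_prod] at h1
    have h2 : Nat.card {z : Z // ∀ b : A, ρ b z = z} * Nat.card {z : Z // inW z ∧ ρ a z = z} ≤
        Nat.card {z : Z // ∀ b : A, ρ b z = z} * 2 := by
      calc _ ≤ _ := h1
        _ ≤ _ := cardCA₁
        _ = _ := by ring
    exact Nat.le_of_mul_le_mul_left h2 posCA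
  -- |W| ≤ |W₀|²
  have cardW_le : Nat.card {z : Z // inW z} ≤
      Nat.card {z : Z // inW z ∧ ρ a z = z} * Nat.card {z : Z // inW z ∧ ρ a z = z} := by
    have hfix : ∀ w : Z, ρ a (w * ρ a w) = w * ρ a w := by
      intro w
      have h1 : ρ a * ρ a = 1 := by rw [← map_mul, ha, map_one]
      have h2 : ρ a (ρ a w) = w := by
        have := congrArg (fun f : MulAut Z => f w) h1
        simpa [MulAut.mul_apply] using this
      rw [map_mul, h2, mul_comm]
    have hinj : Function.Injective (fun w : {z : Z // inW z} =>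
        ((⟨w.1 * ρ a w.1, Wmul _ _ w.2 (Wα _ w.2), hfix _⟩,
          ⟨ξ w.1 * ρ a (ξ w.1), Wmul _ _ (Wξ _ w.2) (Wα _ (Wξ _ w.2)), hfix _⟩) :
          {z : Z // inW z ∧ ρ a z = z} × {z : Z // inW z ∧ ρ a z = z})) := by
      rintro ⟨w₁, hw₁⟩ ⟨w₂, hw₂⟩ h
      simp only [Prod.mk.injEq, Subtype.mk.injEq] at h
      obtain ⟨h1, h2⟩ := h
      -- w := w₁ * w₂
      have hα : ρ a (w₁ * w₂) = w₁ * w₂ := by
        apply eq_of_mul
        rw [map_mul]
        have : ρ a w₁ * ρ a w₂ * (w₁ * w₂) = (w₁ * ρ a w₁) * (w₂ * ρ a w₂) := by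
          simp only [mul_comm, mul_left_comm, mul_assoc]
        rw [this, h1, hsq]
      have hαξ : ρ a (ξ (w₁ * w₂)) = ξ (w₁ * w₂) := by
        apply eq_of_mul
        rw [map_mul, map_mul]
        have : ρ a (ξ w₁) * ρ a (ξ w₂) * (ξ w₁ * ξ w₂) =
            (ξ w₁ * ρ a (ξ w₁)) * (ξ w₂ * ρ a (ξ w₂)) := by
          simp only [mul_comm, mul_left_comm, mul_assoc]
        rw [this, h2, hsq]
      have hw : w₁ * w₂ = 1 := by
        apply key 1 (w₁ * w₂) (map_one _) (Wmul _ _ hw₁ hw₂) hα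
        rw [one_mul, hαξ]
      exact Subtype.ext (eq_of_mul _ _ hw)
    have := Nat.card_le_card_of_injective _ hinj
    rwa [Nat.card_prod] at this
  -- |W₀|² ≤ |W|
  have cardW_ge : Nat.card {z : Z // inW z ∧ ρ a z = z} * Nat.card {z : Z // inW z ∧ ρ a z = z} ≤
      Nat.card {z : Z // inW z} := by
    have hinj : Function.Injective (fun p : {z : Z // inW z ∧ ρ a z = z} ×
        {z : Z // inW z ∧ ρ a z = z} =>
        (⟨p.1.1 * ξ p.2.1, Wmul _ _ p.1.2.1 (Wξ _ p.2.2.1)⟩ : {z : Z // inW z})) := by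
      rintro ⟨⟨x, hx⟩, ⟨u, hu⟩⟩ ⟨⟨x₂, hx₂⟩, ⟨u₂, hu₂⟩⟩ h
      have h0 : x * ξ u = x₂ * ξ u₂ := congrArg Subtype.val h
      have h1 : (x * x₂) * ξ (u * u₂) = 1 := by
        have e1 : (x * x₂) * ξ (u * u₂) = (x * ξ u) * (x₂ * ξ u₂) := by
          rw [map_mul]
          simp only [mul_comm, mul_left_comm, mul_assoc]
        rw [e1, h0, hsq]
      have hx' : u * u₂ = 1 := by
        apply key (x * x₂) (u * u₂) (by rw [map_mul, hx.2, hx₂.2]) (Wmul _ _ hu.1 hu₂.1)
          (by rw [map_mul, hu.2, hu₂.2])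
        rw [h1, map_one]
      rw [hx', map_one, mul_one] at h1
      simp only [Prod.mk.injEq, Subtype.mk.injEq]
      exact ⟨eq_of_mul _ _ h1, eq_of_mul _ _ hx'⟩
    have := Nat.card_le_card_of_injective _ hinj
    rwa [Nat.card_prod] at this
  -- conclusion
  have posW₀ : 0 < Nat.card {z : Z // inW z ∧ ρ a z = z} := by
    haveI : Nonempty {z : Z // inW z ∧ ρ a z = z} := ⟨⟨1, W1, map_one _⟩⟩
    exact Nat.card_pos
  have hWeq : Nat.card {z : Z // inW z} =
      Nat.card {z : Z // inW z ∧ ρ a z = z} * Nat.card {z : Z // inW z ∧ ρ a z = z} :=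
    le_antisymm cardW_le cardW_ge
  show Nat.card {z : Z // inW z} = 1 ∨ Nat.card {z : Z // inW z} = 4
  rw [hWeq]
  have h12 : Nat.card {z : Z // inW z ∧ ρ a z = z} = 1 ∨
      Nat.card {z : Z // inW z ∧ ρ a z = z} = 2 := by omega
  rcases h12 with h | h
  · left; rw [h]
  · right; rw [h]

example : Cfsg.Agent.H81.Ex.StLin.{u} := lin

end Cfsg.Agent.H47.Ex

#print axioms Cfsg.Agent.H47.Ex.lin
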