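import Mathlib
import Cfsg.Agent.H86.GsDefs

/-!
# GS-SEMI (helper47, for helper86's S5665): a matrix preserving every good `K`-line lies in `K`.
-/

set_option autoImplicit false

namespace Cfsg.Agent.H47.Gs

open Cfsg Cfsg.Geo Cfsg.Agent.H95 Cfsg.Agent.H86.Gs
open scoped MatrixGroups Matrix

universe u

section SemiLemmas

variable {m : ℕ} {F : Type*} [Field F] {J : Mat m F} {δ : F}

lemma ne_zero_of_psi {x : V m F} (hx : psi J x ≠ 0) : x ≠ 0 := by
  intro h
  apply hx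
  rw [h]
  unfold psi
  rw [sympForm_zero_left]

/-- `psi` is additive on `K`-orthogonal vectors. -/
lemma psi_add_orth (C : Ctx J δ) {x y : V m F} (h1 : sympForm m F y x = 0)
    (h2 : sympForm m F y (J *ᵥ x) = 0) : psi J (x + y) = psi J x + psi J y := by
  have h3 : sympForm m F x (J *ᵥ y) = 0 := by
    rw [C.skew', sympForm_skew, h2]
    simp
  unfold psi
  rw [Matrix.mulVec_add]
  simp only [sympForm_add_left, sympForm_add_right, h2, h3]
  ring

/-- Two `K`-orthogonal good vectors with good sum have the same coefficients. -/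
lemma semi_key (C : Ctx J δ) (A : Mat m F)
    (hA : ∀ e : V m F, psi J e ≠ 0 → ∃ a b : F, A *ᵥ e = a • e + b • (J *ᵥ e))
    {x x' : V m F} (hx : psi J x ≠ 0) (hx' : psi J x' ≠ 0) (h1 : sympForm m F x' x = 0)
    (h2 : sympForm m F x' (J *ᵥ x) = 0) (hs : psi J (x + x') ≠ 0) :
    ∃ a b : F, A *ᵥ x = a • x + b • (J *ᵥ x) ∧ A *ᵥ x' = a • x' + b • (J *ᵥ x') := by
  obtain ⟨a, b, h⟩ := hA x hx
  obtain ⟨a', b', h'⟩ := hA x' hx'
  obtain ⟨a'', b'', h''⟩ := hA (x + x') hs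
  have E : a • x + b • (J *ᵥ x) + (a' • x' + b' • (J *ᵥ x'))
      = a'' • (x + x') + b'' • (J *ᵥ x + J *ᵥ x') := by
    rw [← h, ← h', ← Matrix.mulVec_add, h'', Matrix.mulVec_add]
  have hxx : sympForm m F x x = 0 := sympForm_self x
  have hJJx : sympForm m F (J *ᵥ x) (J *ᵥ x) = 0 := sympForm_self _
  have hP : sympForm m F x (J *ᵥ x) = psi J x := rfl
  have hP2 : sympForm m F (J *ᵥ x) x = -psi J x := by rw [sympForm_skew]; rfl
  have h1s : sympForm m F x x' = 0 := by rw [sympForm_skew, h1, neg_zero]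
  have h2s : sympForm m F (J *ᵥ x) x' = 0 := by rw [sympForm_skew, h2, neg_zero]
  have h3 : sympForm m F (J *ᵥ x') x = 0 := by rw [C.skew, h2, neg_zero]
  have h3s : sympForm m F x (J *ᵥ x') = 0 := by rw [sympForm_skew, h3, neg_zero]
  have h4 : sympForm m F (J *ᵥ x') (J *ᵥ x) = 0 := by rw [C.formJJ, h1, mul_zero]
  have h4s : sympForm m F (J *ᵥ x) (J *ᵥ x') = 0 := by rw [C.formJJ, h1s, mul_zero]
  have hP' : sympForm m F x' (J *ᵥ x') = psi J x' := rfl
  have hP2' : sympForm m F (J *ᵥ x') x' = -psi J x' := by rw [sympForm_skew]; rfl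
  have hx'x' : sympForm m F x' x' = 0 := sympForm_self x'
  have hJJx' : sympForm m F (J *ᵥ x') (J *ᵥ x') = 0 := sympForm_self _
  have E1 := congrArg (fun v => sympForm m F v (J *ᵥ x)) E
  have E2 := congrArg (fun v => sympForm m F v x) E
  have E3 := congrArg (fun v => sympForm m F v (J *ᵥ x')) E
  have E4 := congrArg (fun v => sympForm m F v x') E
  simp only [sympForm_add_left, sympForm_smul_left, hxx, hJJx, hP, hP2, h1, h1s, h2, h2s, h3,
    h3s, h4, h4s, hP', hP2', hx'x', hJJx'] at E1 E2 E3 E4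
  have ea : a = a'' := mul_right_cancel₀ hx (by linear_combination E1)
  have eb : b = b'' := mul_right_cancel₀ hx (by linear_combination (-1 : F) * E2)
  have ea' : a' = a'' := mul_right_cancel₀ hx' (by linear_combination E3)
  have eb' : b' = b'' := mul_right_cancel₀ hx' (by linear_combination (-1 : F) * E4)
  exact ⟨a, b, h, by rw [h', ea', eb', ← ea, ← eb]⟩

lemma semi_V1 (C : Ctx J δ) (A : Mat m F)
    (hA : ∀ e : V m F, psi J e ≠ 0 → ∃ a b : F, A *ᵥ e = a • e + b • (J *ᵥ e))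
    {e w : V m F} (he : psi J e ≠ 0) (hAe : A *ᵥ e = 0) (hw : psi J w ≠ 0)
    (h1 : sympForm m F w e = 0) (h2 : sympForm m F w (J *ᵥ e) = 0)
    (hne : psi J e + psi J w ≠ 0) : A *ᵥ w = 0 := by
  have hs : psi J (e + w) ≠ 0 := by rw [psi_add_orth C h1 h2]; exact hne
  obtain ⟨a, b, hx, hx'⟩ := semi_key C A hA he hw h1 h2 hs
  rw [hAe] at hx
  obtain ⟨ha, hb⟩ := C.indep (ne_zero_of_psi he) hx.symm
  rw [hx', ha, hb, zero_smul, zero_smul, add_zero]

lemma semi_V2 (C : Ctx J δ) (A : Mat m F)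
    (hA : ∀ e : V m F, psi J e ≠ 0 → ∃ a b : F, A *ᵥ e = a • e + b • (J *ᵥ e))
    {e w : V m F} (he : psi J e ≠ 0) (hAe : A *ᵥ e = 0) (hw : psi J w ≠ 0)
    (h1 : sympForm m F w e = 0) (h2 : sympForm m F w (J *ᵥ e) = 0) : A *ᵥ w = 0 := by
  by_cases hne : psi J e + psi J w ≠ 0
  · exact semi_V1 C A hA he hAe hw h1 h2 hne
  · have hne' : psi J e + psi J w = 0 := not_not.mp hne
    have h1δ : (1 : F) + δ ≠ 0 := by simpa using C.irr 1
    have hJw1 : sympForm m F (J *ᵥ w) e = 0 := by rw [C.skew, h2, neg_zero]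
    have hJw2 : sympForm m F (J *ᵥ w) (J *ᵥ e) = 0 := by rw [C.formJJ, h1, mul_zero]
    have key : ∀ s : F, s * s = 1 → A *ᵥ ((1 : F) • w + s • (J *ᵥ w)) = 0 := by
      intro s hs
      have hpsi : psi J ((1 : F) • w + s • (J *ᵥ w)) = (1 + δ) * psi J w := by
        rw [C.psi_comb]
        have : (1 : F) * 1 + δ * s * s = 1 + δ := by rw [mul_assoc, hs]; ring
        rw [this]
      apply semi_V1 C A hA he hAe
      · rw [hpsi]
        exact mul_ne_zero h1δ hw
      · simp only [sympForm_add_left, sympForm_smul_left, h1, hJw1]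
        ring
      · simp only [sympForm_add_left, sympForm_smul_left, h2, hJw2]
        ring
      · rw [hpsi]
        have : psi J e + (1 + δ) * psi J w = δ * psi J w := by linear_combination hne'
        rw [this]
        exact mul_ne_zero C.delta_ne hw
    have hp := key 1 (by ring)
    have hm' := key (-1) (by ring)
    have h2w : (2 : F) • (A *ᵥ w) = 0 := by
      have e : (2 : F) • w = ((1 : F) • w + (1 : F) • (J *ᵥ w)) + ((1 : F) • w + (-1 : F) • (J *ᵥ w)) := by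
        module
      rw [← Matrix.mulVec_smul, e, Matrix.mulVec_add, hp, hm', add_zero]
    exact (smul_eq_zero.mp h2w).resolve_left C.two

lemma semi_V (hGood : StGood.{u}) {m : ℕ} {F : Type u} [Field F] {J : Mat m F} {δ : F}
    (C : Ctx J δ) (hm : 3 ≤ m) (A : Mat m F)
    (hA : ∀ e : V m F, psi J e ≠ 0 → ∃ a b : F, A *ᵥ e = a • e + b • (J *ᵥ e))
    {e : V m F} (he : psi J e ≠ 0) (hAe : A *ᵥ e = 0) (y : V m F)
    (h1 : sympForm m F y e = 0) (h2 : sympForm m F y (J *ᵥ e) = 0) : A *ᵥ y = 0 := by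
  obtain ⟨y₁, y₂, g1, g2, o1, o1', o2, o2', rfl⟩ := hGood J δ C hm e y h1 h2
  rw [Matrix.mulVec_add, semi_V2 C A hA he hAe g1 o1 o1', semi_V2 C A hA he hAe g2 o2 o2',
    add_zero]

end SemiLemmas

theorem gsSemi (hGood : StGood.{u}) : StSemi.{u} := by
  intro m F _ J δ C hm A hA
  obtain ⟨e₀, -, he₀, -, -, -, -, -, -⟩ :=
    hGood J δ C hm 0 0 (sympForm_zero_left _) (sympForm_zero_left _)
  obtain ⟨a₀, b₀, h₀⟩ := hA e₀ he₀
  obtain ⟨A', hA'def⟩ : ∃ A' : Mat m F, A' = A - (a₀ • (1 : Mat m F) + b₀ • J) := ⟨_, rfl⟩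
  have hA'v : ∀ x : V m F, A' *ᵥ x = A *ᵥ x - (a₀ • x + b₀ • (J *ᵥ x)) := by
    intro x
    rw [hA'def, Matrix.sub_mulVec, Matrix.add_mulVec, Matrix.smul_mulVec, Matrix.smul_mulVec,
      Matrix.one_mulVec]
  have hA' : ∀ e : V m F, psi J e ≠ 0 → ∃ a b : F, A' *ᵥ e = a • e + b • (J *ᵥ e) := by
    intro e he
    obtain ⟨a, b, h⟩ := hA e he
    exact ⟨a - a₀, b - b₀, by rw [hA'v, h]; module⟩
  have hA'e₀ : A' *ᵥ e₀ = 0 := by rw [hA'v, h₀, sub_self]
  have hV₀ := semi_V hGood C hm A' hA' he₀ hA'e₀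
  obtain ⟨w, -, hw, -, hwo1, hwo2, -, -, -⟩ :=
    hGood J δ C hm e₀ 0 (sympForm_zero_left _) (sympForm_zero_left _)
  have hA'w : A' *ᵥ w = 0 := hV₀ w hwo1 hwo2
  have hVw := semi_V hGood C hm A' hA' hw hA'w
  have hA'Je₀ : A' *ᵥ (J *ᵥ e₀) = 0 := by
    apply hVw
    · rw [sympForm_skew, hwo2, neg_zero]
    · rw [C.formJJ, sympForm_skew, hwo1, neg_zero, mul_zero]
  have hall : ∀ x : V m F, A' *ᵥ x = 0 := by
    intro x
    have hJe : sympForm m F (J *ᵥ e₀) e₀ = -psi J e₀ := by rw [sympForm_skew]; rfl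
    have hee : sympForm m F e₀ (J *ᵥ e₀) = psi J e₀ := rfl
    have hy : A' *ᵥ (x - proj J e₀ x) = 0 := by
      apply hV₀
      · unfold proj
        simp only [sympForm_sub_left, sympForm_smul_left, sympForm_self, hJe]
        field_simp
        ring
      · unfold proj
        simp only [sympForm_sub_left, sympForm_smul_left, sympForm_self, hee]
        field_simp
        ring
    have hpj : A' *ᵥ (proj J e₀ x) = 0 := by
      unfold proj
      rw [Matrix.mulVec_smul, Matrix.mulVec_sub, Matrix.mulVec_smul, Matrix.mulVec_smul, hA'e₀,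
        hA'Je₀]
      simp
    have hx : x = (x - proj J e₀ x) + proj J e₀ x := by abel
    rw [hx, Matrix.mulVec_add, hy, hpj, add_zero]
  have hzero : A' = 0 := H17.matrix_ext_mulVec (fun x => by rw [hall, Matrix.zero_mulVec])
  refine ⟨a₀, b₀, ?_⟩
  rw [hA'def] at hzero
  exact sub_eq_zero.mp hzero

example (hGood : Cfsg.Agent.H86.Gs.StGood.{u}) : Cfsg.Agent.H86.Gs.StSemi.{u} := gsSemi hGood

end Cfsg.Agent.H47.Gs

#print axioms Cfsg.Agent.H47.Gs.gsSemi
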