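import Mathlib
import Cfsg.Agent.H86.GsDefs

/-!
# GS-Z (helper47, for helper86's S5665): the key step.

If `M ≤ Sp` contains the torus maps, `g ∈ M`, `e`, `e₁` are good and `g e` is `K`-orthogonal to
`e₁`, then the projection of `g (J e)` to the `K`-line of `e₁` is the centre of a full
transvection group in `M`.
-/

set_option autoImplicit false

namespace Cfsg.Agent.H47.Gs

open Cfsg Cfsg.Geo Cfsg.Agent.H95 Cfsg.Agent.H86.Gs
open scoped MatrixGroups Matrix

universe u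

section Lemmas

variable {m : ℕ} {F : Type*} [Field F]

lemma transv_add (z : V m F) (d d' : F) :
    sympTransv z (d + d') = sympTransv z d * sympTransv z d' := by
  apply Units.ext
  apply H17.matrix_ext_mulVec
  intro x
  rw [Units.val_mul, ← Matrix.mulVec_mulVec, sympTransv_mulVec, sympTransv_mulVec,
    sympTransv_mulVec]
  simp only [sympForm_add_left, sympForm_smul_left, sympForm_self, mul_zero, add_zero]
  module

lemma transv_zero (z : V m F) : sympTransv z (0 : F) = 1 := by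
  apply Units.ext
  apply H17.matrix_ext_mulVec
  intro x
  rw [sympTransv_mulVec, Units.val_one, Matrix.one_mulVec, zero_mul, zero_smul, add_zero]

lemma transv_neg (z : V m F) (d : F) : sympTransv z (-d) = (sympTransv z d)⁻¹ := by
  apply eq_inv_of_mul_eq_one_left
  rw [← transv_add, neg_add_cancel, transv_zero]

/-- The conjugate `g c' g⁻¹` of a torus map, in the hyperbolic pair `p = g e`, `a = g (J e) / psi e`. -/
lemma conj_tor {J : Mat m F} {δ : F} (C : Ctx J δ) {g c' : GL (Fin m ⊕ Fin m) F}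
    (hg : g ∈ spGL m F) {e : V m F} (he : psi J e ≠ 0) {α β : F}
    (hc' : ∀ x : V m F, (c' : Mat m F) *ᵥ x = tor J e α β x) (p a : V m F)
    (hp : (g : Mat m F) *ᵥ e = p) (hQ : (g : Mat m F) *ᵥ (J *ᵥ e) = psi J e • a) (x : V m F) :
    ((g * c' * g⁻¹ : GL (Fin m ⊕ Fin m) F) : Mat m F) *ᵥ x
      = x + (α - 1) • (sympForm m F x a • p - sympForm m F x p • a)
        + β • ((psi J e * sympForm m F x a) • a + ((psi J e)⁻¹ * δ * sympForm m F x p) • p) := by
  have hX1 : sympForm m F (((g⁻¹ : GL (Fin m ⊕ Fin m) F) : Mat m F) *ᵥ x) (J *ᵥ e)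
      = psi J e * sympForm m F x a := by
    rw [spGL_inv_form hg, hQ, sympForm_smul_right]
  have hX2 : sympForm m F (((g⁻¹ : GL (Fin m ⊕ Fin m) F) : Mat m F) *ᵥ x) e
      = sympForm m F x p := by
    rw [spGL_inv_form hg, hp]
  have hgX : (g : Mat m F) *ᵥ (((g⁻¹ : GL (Fin m ⊕ Fin m) F) : Mat m F) *ᵥ x) = x := by
    rw [Matrix.mulVec_mulVec, ← Units.val_mul, mul_inv_cancel, Units.val_one, Matrix.one_mulVec]
  have hJJ : (g : Mat m F) *ᵥ (J *ᵥ (J *ᵥ e)) = -(δ • p) := by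
    rw [C.sq, Matrix.mulVec_neg, Matrix.mulVec_smul, hp]
  rw [Units.val_mul, Units.val_mul, ← Matrix.mulVec_mulVec, ← Matrix.mulVec_mulVec, hc']
  unfold tor proj
  simp only [Matrix.mulVec_add, Matrix.mulVec_smul, Matrix.mulVec_sub, hX1, hX2, hgX, hJJ, hp, hQ]
  match_scalars <;> field_simp

lemma conj_spS {h u : GL (Fin m ⊕ Fin m) F} (hh : h ∈ spGL m F) {z w : V m F} {γ : F}
    (hu : ∀ x : V m F, (u : Mat m F) *ᵥ x = spS z w γ x) (hz : (h : Mat m F) *ᵥ z = z)
    (x : V m F) :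
    ((h * u * h⁻¹ : GL (Fin m ⊕ Fin m) F) : Mat m F) *ᵥ x = spS z ((h : Mat m F) *ᵥ w) γ x := by
  rw [Units.val_mul, Units.val_mul, ← Matrix.mulVec_mulVec, ← Matrix.mulVec_mulVec, hu]
  unfold spS
  simp only [Matrix.mulVec_add, Matrix.mulVec_smul, spGL_inv_form hh, hz]
  rw [Matrix.mulVec_mulVec, ← Units.val_mul, mul_inv_cancel, Units.val_one, Matrix.one_mulVec]

lemma comm_spS {g₁ g₂ : GL (Fin m ⊕ Fin m) F} {z w w' : V m F} {γ γ' : F}
    (h1 : ∀ x : V m F, (g₁ : Mat m F) *ᵥ x = spS z w γ x)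
    (h2 : ∀ x : V m F, (g₂ : Mat m F) *ᵥ x = spS z w' γ' x)
    (hw : sympForm m F z w = 0) (hw' : sympForm m F z w' = 0) :
    g₁ * g₂ = g₂ * g₁ * sympTransv z (-(2 * sympForm m F w w')) := by
  apply Units.ext
  apply H17.matrix_ext_mulVec
  intro x
  have L : ((g₁ * g₂ : GL (Fin m ⊕ Fin m) F) : Mat m F) *ᵥ x
      = spS z (w + w') (γ + γ' + sympForm m F w' w) x := by
    rw [Units.val_mul, ← Matrix.mulVec_mulVec, h2, h1]
    exact spS_comp z _ _ γ γ' x hw hw'
  have R : ((g₂ * g₁ * sympTransv z (-(2 * sympForm m F w w')) : GL (Fin m ⊕ Fin m) F) :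
      Mat m F) *ᵥ x
      = spS z (w' + w) (γ' + (γ + -(2 * sympForm m F w w')) + sympForm m F w w') x := by
    rw [Units.val_mul, Units.val_mul, ← Matrix.mulVec_mulVec, ← Matrix.mulVec_mulVec,
      sympTransv_mulVec, h1, h2, spS_transv z _ γ _ x hw]
    exact spS_comp z _ _ γ' _ x hw' hw
  rw [L, R, add_comm w' w]
  congr 1
  rw [sympForm_skew w' w]
  ring

end Lemmas

set_option maxHeartbeats 1000000 in
theorem gsZ (hTor : StTor.{u}) (hHeis : StHeis.{u}) (hAdd : StAdd.{u}) : StZ.{u} := by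
  intro m F _ _ J δ C M hM hT g hg e e₁ he he₁ h1 h2
  have hgS : g ∈ spGL m F := hM hg
  obtain ⟨p, hp⟩ : ∃ p : V m F, (g : Mat m F) *ᵥ e = p := ⟨_, rfl⟩
  obtain ⟨Q, hQdef⟩ : ∃ Q : V m F, (g : Mat m F) *ᵥ (J *ᵥ e) = Q := ⟨_, rfl⟩
  rw [hp] at h1 h2
  rw [hQdef]
  obtain ⟨a, ha⟩ : ∃ a : V m F, a = (psi J e)⁻¹ • Q := ⟨_, rfl⟩
  obtain ⟨z, hz⟩ : ∃ z : V m F, z = (2 * (psi J e)⁻¹) • proj J e₁ Q := ⟨_, rfl⟩
  have hQ : (g : Mat m F) *ᵥ (J *ᵥ e) = psi J e • a := by
    rw [hQdef, ha, smul_smul, mul_inv_cancel₀ he, one_smul]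
  have h1' : sympForm m F e₁ p = 0 := by rw [sympForm_skew, h1, neg_zero]
  have h2' : sympForm m F (J *ᵥ e₁) p = 0 := by rw [sympForm_skew, h2, neg_zero]
  have hpa : sympForm m F p a = 1 := by
    rw [ha, sympForm_smul_right, ← hp, ← hQdef, (mem_spGL_iff g).mp hgS e (J *ᵥ e)]
    exact inv_mul_cancel₀ he
  have hap : sympForm m F a p = -1 := by rw [sympForm_skew, hpa]
  have h1δ : (1 : F) + δ ≠ 0 := by simpa using C.irr 1
  have h2F : (2 : F) ≠ 0 := C.two
  -- the element `n`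
  obtain ⟨n, hnS, -, hn⟩ := hTor J δ C e₁ (-1) 0 he₁ (by ring)
  have hnM : n ∈ M := hT e₁ (-1) 0 he₁ (by ring) n hn
  have hnp : (n : Mat m F) *ᵥ p = p := by
    have hproj : proj J e₁ p = 0 := by
      unfold proj
      rw [h1, h2]
      simp
    rw [hn]
    unfold tor
    rw [hproj]
    simp
  have hna : (n : Mat m F) *ᵥ a = a - z := by
    rw [hn, hz, ha]
    unfold tor proj
    simp only [sympForm_smul_left]
    module
  have hzp : sympForm m F z p = 0 := by
    rw [hz]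
    unfold proj
    simp only [sympForm_smul_left, sympForm_sub_left, h1', h2']
    ring
  have hza : sympForm m F z a = 0 := by
    rw [hz, ha]
    unfold proj
    simp only [sympForm_smul_left, sympForm_smul_right, sympForm_sub_left]
    rw [sympForm_skew e₁ Q, sympForm_skew (J *ᵥ e₁) Q]
    ring
  -- the conjugated torus elements
  have key : ∀ t : F, ∃ c : GL (Fin m ⊕ Fin m) F, c ∈ M ∧ c ∈ spGL m F ∧
      (c : Mat m F) *ᵥ p = ((t * t - δ) / (t * t + δ)) • p
        + (2 * t / (t * t + δ) * psi J e) • a ∧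
      (c : Mat m F) *ᵥ a = ((t * t - δ) / (t * t + δ)) • a
        - (2 * t / (t * t + δ) * δ * (psi J e)⁻¹) • p ∧
      ∀ x : V m F, (c : Mat m F) *ᵥ x = x + sympForm m F x a • ((c : Mat m F) *ᵥ p - p)
        - sympForm m F x p • ((c : Mat m F) *ᵥ a - a) := by
    intro t
    have ht : t * t + δ ≠ 0 := C.irr t
    have ht' : t ^ 2 + δ ≠ 0 := by rw [pow_two]; exact ht
    have ht'' : δ + t ^ 2 ≠ 0 := by rw [add_comm]; exact ht'
    have hαβ : ((t * t - δ) / (t * t + δ)) * ((t * t - δ) / (t * t + δ))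
        + δ * (2 * t / (t * t + δ)) * (2 * t / (t * t + δ)) = 1 := by
      field_simp
      ring
    obtain ⟨c', hc'S, -, hc'⟩ := hTor J δ C e _ _ he hαβ
    have hc'M : c' ∈ M := hT e _ _ he hαβ c' hc'
    have hA := conj_tor C hgS he hc' p a hp hQ
    have hcp : ((g * c' * g⁻¹ : GL (Fin m ⊕ Fin m) F) : Mat m F) *ᵥ p
        = ((t * t - δ) / (t * t + δ)) • p + (2 * t / (t * t + δ) * psi J e) • a := by
      rw [hA p, hpa, sympForm_self]
      match_scalars <;> field_simp <;> ring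
    have hca : ((g * c' * g⁻¹ : GL (Fin m ⊕ Fin m) F) : Mat m F) *ᵥ a
        = ((t * t - δ) / (t * t + δ)) • a - (2 * t / (t * t + δ) * δ * (psi J e)⁻¹) • p := by
      rw [hA a, hap, sympForm_self]
      match_scalars <;> field_simp <;> ring
    refine ⟨g * c' * g⁻¹, M.mul_mem (M.mul_mem hg hc'M) (M.inv_mem hg),
      (spGL m F).mul_mem ((spGL m F).mul_mem hgS hc'S) ((spGL m F).inv_mem hgS), hcp, hca,
      fun x => ?_⟩
    rw [hcp, hca, hA x]
    match_scalars <;> field_simp <;> ring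
  obtain ⟨c₁, hc₁M, hc₁S, hc₁p, hc₁a, hc₁⟩ := key 1
  have hc₁z : (c₁ : Mat m F) *ᵥ z = z := by
    rw [hc₁ z, hza, hzp, zero_smul, zero_smul, add_zero, sub_zero]
  -- the additive subgroup of transvection parameters
  let S : AddSubgroup F :=
    { carrier := {d | sympTransv z d ∈ M}
      zero_mem' := by
        show sympTransv z 0 ∈ M
        rw [transv_zero]
        exact M.one_mem
      add_mem' := fun {d d'} hd hd' => by
        show sympTransv z (d + d') ∈ M
        rw [transv_add]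
        exact M.mul_mem hd hd'
      neg_mem' := fun {d} hd => by
        show sympTransv z (-d) ∈ M
        rw [transv_neg]
        exact M.inv_mem hd }
  have hSmem : ∀ d : F, d ∈ S ↔ sympTransv z d ∈ M := fun d => Iff.rfl
  have h16 : (16 : F) ≠ 0 := by
    have : (16 : F) = 2 * 2 * 2 * 2 := by norm_num
    rw [this]
    exact mul_ne_zero (mul_ne_zero (mul_ne_zero h2F h2F) h2F) h2F
  have hCc : -(16 * δ * psi J e) / (1 + δ) ≠ 0 :=
    div_ne_zero (neg_ne_zero.mpr (mul_ne_zero (mul_ne_zero h16 C.delta_ne) he)) h1δ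
  have hS : ∀ t : F, -(16 * δ * psi J e) / (1 + δ) / (t * t + δ) ∈ S := by
    intro t
    have ht : t * t + δ ≠ 0 := C.irr t
    have ht' : t ^ 2 + δ ≠ 0 := by rw [pow_two]; exact ht
    have ht'' : δ + t ^ 2 ≠ 0 := by rw [add_comm]; exact ht'
    have h1δ' : δ + 1 ≠ 0 := by rw [add_comm]; exact h1δ
    obtain ⟨c, hcM, hcS, hcp, hca, hc⟩ := key t
    have hu := hHeis p a z c n hcS hnS hpa hzp hza hc ⟨_, _, hcp⟩
      ⟨-(2 * t / (t * t + δ) * δ * (psi J e)⁻¹), (t * t - δ) / (t * t + δ), by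
        rw [hca]; module⟩ hnp hna
    have hu' := conj_spS hc₁S hu hc₁z
    have hzw : sympForm m F z (p - (c : Mat m F) *ᵥ p) = 0 := by
      rw [hcp]
      simp only [sympForm_sub_right, sympForm_add_right, sympForm_smul_right, hzp, hza]
      ring
    have hzw' : sympForm m F z ((c₁ : Mat m F) *ᵥ (p - (c : Mat m F) *ᵥ p)) = 0 := by
      rw [hcp]
      simp only [Matrix.mulVec_sub, Matrix.mulVec_add, Matrix.mulVec_smul, hc₁p, hc₁a,
        sympForm_sub_right, sympForm_add_right, sympForm_smul_right, hzp, hza]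
      ring
    have hcomm := comm_spS hu hu' hzw hzw'
    have hg₁M : n * c * n⁻¹ * c⁻¹ ∈ M :=
      M.mul_mem (M.mul_mem (M.mul_mem hnM hcM) (M.inv_mem hnM)) (M.inv_mem hcM)
    have hg₂M : c₁ * (n * c * n⁻¹ * c⁻¹) * c₁⁻¹ ∈ M :=
      M.mul_mem (M.mul_mem hc₁M hg₁M) (M.inv_mem hc₁M)
    have hmem : sympTransv z (-(2 * sympForm m F (p - (c : Mat m F) *ᵥ p)
        ((c₁ : Mat m F) *ᵥ (p - (c : Mat m F) *ᵥ p)))) ∈ M := by
      have e3 : sympTransv z (-(2 * sympForm m F (p - (c : Mat m F) *ᵥ p)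
          ((c₁ : Mat m F) *ᵥ (p - (c : Mat m F) *ᵥ p))))
          = (c₁ * (n * c * n⁻¹ * c⁻¹) * c₁⁻¹ * (n * c * n⁻¹ * c⁻¹))⁻¹
            * ((n * c * n⁻¹ * c⁻¹) * (c₁ * (n * c * n⁻¹ * c⁻¹) * c₁⁻¹)) := by
        rw [hcomm]
        group
      rw [e3]
      exact M.mul_mem (M.inv_mem (M.mul_mem hg₂M hg₁M)) (M.mul_mem hg₁M hg₂M)
    have hval : -(2 * sympForm m F (p - (c : Mat m F) *ᵥ p)
        ((c₁ : Mat m F) *ᵥ (p - (c : Mat m F) *ᵥ p)))
        = -(16 * δ * psi J e) / (1 + δ) / (t * t + δ) := by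
      rw [hcp]
      simp only [Matrix.mulVec_sub, Matrix.mulVec_add, Matrix.mulVec_smul, hc₁p, hc₁a,
        sympForm_sub_left, sympForm_sub_right, sympForm_add_left, sympForm_add_right,
        sympForm_smul_left, sympForm_smul_right, sympForm_self, hpa, hap]
      field_simp
      ring
    rw [hSmem, ← hval]
    exact hmem
  have hStop : S = ⊤ := hAdd h2F δ _ C.irr hCc S hS
  have hzT : z ∈ transvCenters M := by
    intro d
    have : d ∈ S := by rw [hStop]; trivial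
    exact (hSmem d).mp this
  have hy : proj J e₁ Q = (psi J e / 2) • z := by
    rw [hz, smul_smul]
    have : psi J e / 2 * (2 * (psi J e)⁻¹) = 1 := by field_simp
    rw [this, one_smul]
  rw [hy]
  exact transvCenters_smul hzT _

example (hTor : Cfsg.Agent.H86.Gs.StTor.{u}) (hHeis : Cfsg.Agent.H86.Gs.StHeis.{u})
    (hAdd : Cfsg.Agent.H86.Gs.StAdd.{u}) : Cfsg.Agent.H86.Gs.StZ.{u} := gsZ hTor hHeis hAdd

end Cfsg.Agent.H47.Gs

#print axioms Cfsg.Agent.H47.Gs.gsZ
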