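import Mathlib
import Cfsg.Agent.H10.HO.Defs2

set_option autoImplicit false

namespace Cfsg.Agent.H47.Ho

open Cfsg.Agent.H10.HO

universe u

theorem hg : Cfsg.Agent.H10.HO.StHG.{u} := by
  intro G _ x z t n k D hC hnz hD h1 h2 hgen β hx hz ht
  -- β fixes every word in x, z, t
  have hev : ∀ w : List ℕ, β (evS x z t w) = evS x z t w := by
    intro w
    induction w with
    | nil => simp [evS]
    | cons c w ih =>
      match c with
      | 0 =>
        have e : evS x z t (0 :: w) = x * evS x z t w := rfl
        rw [e, map_mul, hx, ih]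
      | 1 =>
        have e : evS x z t (1 :: w) = x⁻¹ * evS x z t w := rfl
        rw [e, map_mul, map_inv, hx, ih]
      | 2 =>
        have e : evS x z t (2 :: w) = z * evS x z t w := rfl
        rw [e, map_mul, hz, ih]
      | 3 =>
        have e : evS x z t (3 :: w) = z⁻¹ * evS x z t w := rfl
        rw [e, map_mul, map_inv, hz, ih]
      | (m + 4) =>
        have e : evS x z t ((m + 4) :: w) = t * evS x z t w := rfl
        rw [e, map_mul, ht, ih]
  -- w0 := n⁻¹ * β n commutes with every fixed d whose n-conjugate is fixed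
  have key : ∀ d : G, β d = d → β (n * d * n⁻¹) = n * d * n⁻¹ →
      (n⁻¹ * β n) * d = d * (n⁻¹ * β n) := by
    intro d hd h
    rw [map_mul, map_mul, map_inv, hd] at h
    have h' : β n * d = n * d * n⁻¹ * β n := by rw [← h]; group
    calc (n⁻¹ * β n) * d = n⁻¹ * (β n * d) := by group
      _ = n⁻¹ * (n * d * n⁻¹ * β n) := by rw [h']
      _ = d * (n⁻¹ * β n) := by group
  have hwz : (n⁻¹ * β n) * z = z * (n⁻¹ * β n) :=
    key z hz (by rw [hnz, map_pow, hz])
  obtain ⟨a, ha, hcase⟩ := hC (n⁻¹ * β n) hwz
  have hwD : ∀ p ∈ D, (n⁻¹ * β n) * evS x z t p.1 = evS x z t p.1 * (n⁻¹ * β n) :=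
    fun p hp => key _ (hev _) (by rw [hD p hp, hev])
  have hw1 : n⁻¹ * β n = 1 := by
    rcases hcase with h | h
    · rcases Nat.eq_zero_or_pos a with h0 | hpos
      · rw [h, h0, pow_zero]
      · obtain ⟨p, hp, hne⟩ := h1 a hpos ha
        have := hwD p hp
        rw [h] at this
        exact absurd this hne
    · obtain ⟨p, hp, hne⟩ := h2 a ha
      have := hwD p hp
      rw [h] at this
      exact absurd this hne
  have hn : β n = n := by
    calc β n = n * (n⁻¹ * β n) := by group
      _ = n := by rw [hw1, mul_one]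
  -- β = 1
  ext g
  have hg : g ∈ Subgroup.closure ({x, z, t, n} : Set G) := by rw [hgen]; trivial
  show β g = g
  induction hg using Subgroup.closure_induction with
  | mem y hy =>
    rcases hy with rfl | rfl | rfl | rfl
    · exact hx
    · exact hz
    · exact ht
    · exact hn
  | one => simp
  | mul a b _ _ ha hb => rw [map_mul, ha, hb]
  | inv a _ ha => rw [map_inv, ha]

example : Cfsg.Agent.H10.HO.StHG.{u} := hg

end Cfsg.Agent.H47.Ho

#print axioms Cfsg.Agent.H47.Ho.hg
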