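import Mathlib
import Cfsg.Agent.H9.PGDefs

/-!
# PG-CENT (helper47, for helper9's S3662): the commutant of the root elements on the 6-dimensional
module of `G₂(4)`, intersected with the isometries of the alternating form, is trivial.

Machine-generated elimination: the entries of `M * Xc r 1 = Xc r 1 * M` give, by unit propagation,
all off-diagonal entries of `M` equal to `0` and all diagonal entries equal; then `c * c = 1`.
-/

set_option autoImplicit false
set_option linter.unusedSimpArgs false
set_option linter.unusedVariables false
set_option linter.unreachableTactic false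
set_option linter.unusedTactic false

namespace Cfsg.Agent.H47.PG

open Cfsg.Agent.H9.PG
open scoped Matrix

set_option maxHeartbeats 1000000 in
theorem cent : StCent := by
  intro M h hJ
  have z02 : M 0 2 = 0 := by
    have := congrFun (congrFun (h 0 (by norm_num) 1) 0) 1
    simp [Xc, Matrix.mul_apply, Fin.sum_univ_six] at this
    first
      | exact this
      | (revert this; generalize M 0 2 = x1; generalize M 0 1 = x2; revert x1 x2; decide)
  have z04 : M 0 4 = 0 := by
    have := congrFun (congrFun (h 0 (by norm_num) 1) 0) 5
    simp [Xc, Matrix.mul_apply, Fin.sum_univ_six] at this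
    first
      | exact this
      | (revert this; generalize M 0 4 = x1; generalize M 0 5 = x2; revert x1 x2; decide)
  have z12 : M 1 2 = 0 := by
    have := congrFun (congrFun (h 0 (by norm_num) 1) 1) 1
    simp [Xc, Matrix.mul_apply, Fin.sum_univ_six] at this
    first
      | exact this
      | (revert this; generalize M 1 2 = x1; generalize M 1 1 = x2; revert x1 x2; decide)
  have z14 : M 1 4 = 0 := by
    have := congrFun (congrFun (h 0 (by norm_num) 1) 1) 5
    simp [Xc, Matrix.mul_apply, Fin.sum_univ_six] at this
    first
      | exact this
      | (revert this; generalize M 1 4 = x1; generalize M 1 5 = x2; revert x1 x2; decide)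
  have z10 : M 1 0 = 0 := by
    have := congrFun (congrFun (h 0 (by norm_num) 1) 2) 0
    simp [Xc, Matrix.mul_apply, Fin.sum_univ_six] at this
    first
      | exact this
      | (revert this; generalize M 1 0 = x1; generalize M 2 0 = x2; revert x1 x2; decide)
  have z13 : M 1 3 = 0 := by
    have := congrFun (congrFun (h 0 (by norm_num) 1) 2) 3
    simp [Xc, Matrix.mul_apply, Fin.sum_univ_six] at this
    first
      | exact this
      | (revert this; generalize M 1 3 = x1; generalize M 2 3 = x2; revert x1 x2; decide)
  have z32 : M 3 2 = 0 := by
    have := congrFun (congrFun (h 0 (by norm_num) 1) 3) 1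
    simp [Xc, Matrix.mul_apply, Fin.sum_univ_six] at this
    first
      | exact this
      | (revert this; generalize M 3 2 = x1; generalize M 3 1 = x2; revert x1 x2; decide)
  have z34 : M 3 4 = 0 := by
    have := congrFun (congrFun (h 0 (by norm_num) 1) 3) 5
    simp [Xc, Matrix.mul_apply, Fin.sum_univ_six] at this
    first
      | exact this
      | (revert this; generalize M 3 4 = x1; generalize M 3 5 = x2; revert x1 x2; decide)
  have z50 : M 5 0 = 0 := by
    have := congrFun (congrFun (h 0 (by norm_num) 1) 4) 0
    simp [Xc, Matrix.mul_apply, Fin.sum_univ_six] at this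
    first
      | exact this
      | (revert this; generalize M 5 0 = x1; generalize M 4 0 = x2; revert x1 x2; decide)
  have z52 : M 5 2 = 0 := by
    have := congrFun (congrFun (h 0 (by norm_num) 1) 4) 2
    simp [Xc, Matrix.mul_apply, Fin.sum_univ_six] at this
    first
      | exact this
      | (revert this; generalize M 5 2 = x1; generalize M 4 2 = x2; revert x1 x2; decide)
  have z53 : M 5 3 = 0 := by
    have := congrFun (congrFun (h 0 (by norm_num) 1) 4) 3
    simp [Xc, Matrix.mul_apply, Fin.sum_univ_six] at this
    first
      | exact this
      | (revert this; generalize M 5 3 = x1; generalize M 4 3 = x2; revert x1 x2; decide)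
  have z54 : M 5 4 = 0 := by
    have := congrFun (congrFun (h 0 (by norm_num) 1) 4) 4
    simp [Xc, Matrix.mul_apply, Fin.sum_univ_six] at this
    first
      | exact this
      | (revert this; generalize M 5 4 = x1; generalize M 4 4 = x2; revert x1 x2; decide)
  have z03 : M 0 3 = 0 := by
    have := congrFun (congrFun (h 1 (by norm_num) 1) 0) 5
    simp [Xc, Matrix.mul_apply, Fin.sum_univ_six] at this
    first
      | exact this
      | (revert this; generalize M 0 3 = x1; generalize M 0 5 = x2; revert x1 x2; decide)
  have z01 : M 0 1 = 0 := by
    have := congrFun (congrFun (h 1 (by norm_num) 1) 2) 1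
    simp [Xc, Matrix.mul_apply, Fin.sum_univ_six] at this
    first
      | exact this
      | (revert this; generalize M 0 1 = x1; generalize M 2 1 = x2; revert x1 x2; decide)
  have z51 : M 5 1 = 0 := by
    have := congrFun (congrFun (h 1 (by norm_num) 1) 3) 1
    simp [Xc, Matrix.mul_apply, Fin.sum_univ_six] at this
    first
      | exact this
      | (revert this; generalize M 5 1 = x1; generalize M 3 1 = x2; revert x1 x2; decide)
  have z42 : M 4 2 = 0 := by
    have := congrFun (congrFun (h 1 (by norm_num) 1) 4) 0
    simp [Xc, Matrix.mul_apply, Fin.sum_univ_six] at this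
    first
      | exact this
      | (revert this; generalize M 4 2 = x1; generalize M 4 0 = x2; revert x1 x2; decide)
  have z43 : M 4 3 = 0 := by
    have := congrFun (congrFun (h 1 (by norm_num) 1) 4) 5
    simp [Xc, Matrix.mul_apply, Fin.sum_univ_six] at this
    first
      | exact this
      | (revert this; generalize M 4 3 = x1; generalize M 4 5 = x2; revert x1 x2; decide)
  have z24 : M 2 4 = 0 := by
    have := congrFun (congrFun (h 2 (by norm_num) 1) 2) 0
    simp [Xc, Matrix.mul_apply, Fin.sum_univ_six, z50] at this
    first
      | exact this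
      | (revert this; generalize M 2 4 = x1; generalize M 2 0 = x2; revert x1 x2; decide)
  have z23 : M 2 3 = 0 := by
    have := congrFun (congrFun (h 2 (by norm_num) 1) 2) 1
    simp [Xc, Matrix.mul_apply, Fin.sum_univ_six, z51] at this
    first
      | exact this
      | (revert this; generalize M 2 3 = x1; generalize M 2 1 = x2; revert x1 x2; decide)
  have z15 : M 1 5 = 0 := by
    have := congrFun (congrFun (h 2 (by norm_num) 1) 3) 5
    simp [Xc, Matrix.mul_apply, Fin.sum_univ_six, z32] at this
    first
      | exact this
      | (revert this; generalize M 1 5 = x1; generalize M 3 5 = x2; revert x1 x2; decide)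
  have z05 : M 0 5 = 0 := by
    have := congrFun (congrFun (h 2 (by norm_num) 1) 4) 5
    simp [Xc, Matrix.mul_apply, Fin.sum_univ_six, z42] at this
    first
      | exact this
      | (revert this; generalize M 0 5 = x1; generalize M 4 5 = x2; revert x1 x2; decide)
  have z30 : M 3 0 = 0 := by
    have := congrFun (congrFun (h 3 (by norm_num) 1) 2) 0
    simp [Xc, Matrix.mul_apply, Fin.sum_univ_six] at this
    first
      | exact this
      | (revert this; generalize M 3 0 = x1; generalize M 2 0 = x2; revert x1 x2; decide)
  have z31 : M 3 1 = 0 := by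
    have := congrFun (congrFun (h 3 (by norm_num) 1) 2) 1
    simp [Xc, Matrix.mul_apply, Fin.sum_univ_six, z24] at this
    first
      | exact this
      | (revert this; generalize M 3 1 = x1; generalize M 2 1 = x2; revert x1 x2; decide)
  have z40 : M 4 0 = 0 := by
    have := congrFun (congrFun (h 3 (by norm_num) 1) 4) 5
    simp [Xc, Matrix.mul_apply, Fin.sum_univ_six, z15] at this
    first
      | exact this
      | (revert this; generalize M 4 0 = x1; generalize M 4 5 = x2; revert x1 x2; decide)
  have z41 : M 4 1 = 0 := by
    have := congrFun (congrFun (h 4 (by norm_num) 1) 2) 1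
    simp [Xc, Matrix.mul_apply, Fin.sum_univ_six] at this
    first
      | exact this
      | (revert this; generalize M 4 1 = x1; generalize M 2 1 = x2; revert x1 x2; decide)
  have z20 : M 2 0 = 0 := by
    have := congrFun (congrFun (h 5 (by norm_num) 1) 2) 1
    simp [Xc, Matrix.mul_apply, Fin.sum_univ_six] at this
    first
      | exact this
      | (revert this; generalize M 2 0 = x1; generalize M 2 1 = x2; revert x1 x2; decide)
  have z35 : M 3 5 = 0 := by
    have := congrFun (congrFun (h 5 (by norm_num) 1) 4) 5
    simp [Xc, Matrix.mul_apply, Fin.sum_univ_six] at this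
    first
      | exact this
      | (revert this; generalize M 3 5 = x1; generalize M 4 5 = x2; revert x1 x2; decide)
  have z21 : M 2 1 = 0 := by
    have := congrFun (congrFun (h 6 (by norm_num) 1) 2) 0
    simp [Xc, Matrix.mul_apply, Fin.sum_univ_six] at this
    first
      | exact this
      | (revert this; generalize M 2 1 = x1; generalize M 2 0 = x2; revert x1 x2; decide)
  have z45 : M 4 5 = 0 := by
    have := congrFun (congrFun (h 6 (by norm_num) 1) 3) 5
    simp [Xc, Matrix.mul_apply, Fin.sum_univ_six] at this
    first
      | exact this
      | (revert this; generalize M 4 5 = x1; generalize M 3 5 = x2; revert x1 x2; decide)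
  have z25 : M 2 5 = 0 := by
    have := congrFun (congrFun (h 7 (by norm_num) 1) 2) 1
    simp [Xc, Matrix.mul_apply, Fin.sum_univ_six] at this
    first
      | exact this
      | (revert this; generalize M 2 5 = x1; generalize M 2 1 = x2; revert x1 x2; decide)
  have d1 : M 1 1 = M 0 0 := by
    have := congrFun (congrFun (h 5 (by norm_num) 1) 0) 1
    simp [Xc, Matrix.mul_apply, Fin.sum_univ_six] at this
    revert this; generalize M 1 1 = x1; generalize M 0 0 = x2; generalize M 0 1 = x3
    revert x1 x2 x3; decide
  have d2 : M 2 2 = M 0 0 := by
    have := congrFun (congrFun (h 1 (by norm_num) 1) 2) 0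
    simp [Xc, Matrix.mul_apply, Fin.sum_univ_six] at this
    revert this; generalize M 2 2 = x1; generalize M 0 0 = x2; generalize M 2 0 = x3
    revert x1 x2 x3; decide
  have d3 : M 3 3 = M 0 0 := by
    have := congrFun (congrFun (h 4 (by norm_num) 1) 3) 0
    simp [Xc, Matrix.mul_apply, Fin.sum_univ_six] at this
    revert this; generalize M 3 3 = x1; generalize M 0 0 = x2; generalize M 3 0 = x3
    revert x1 x2 x3; decide
  have d4 : M 4 4 = M 0 0 := by
    have := congrFun (congrFun (h 2 (by norm_num) 1) 4) 0
    simp [Xc, Matrix.mul_apply, Fin.sum_univ_six] at this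
    revert this; generalize M 4 4 = x1; generalize M 0 0 = x2; generalize M 4 0 = x3
    revert x1 x2 x3; decide
  have d5 : M 5 5 = M 0 0 := by
    have := congrFun (congrFun (h 3 (by norm_num) 1) 0) 5
    simp [Xc, Matrix.mul_apply, Fin.sum_univ_six] at this
    revert this; generalize M 5 5 = x1; generalize M 0 0 = x2; generalize M 0 5 = x3
    revert x1 x2 x3; decide
  have hc : M 0 0 = 1 := by
    have := congrFun (congrFun hJ 0) 3
    simp [Matrix.mul_apply, Matrix.transpose_apply, Fin.sum_univ_six, Jm, z01, z02, z03, z04, z05, z10, z12, z13, z14, z15, z20, z21, z23, z24, z25, z30, z31, z32, z34, z35, z40, z41, z42, z43, z45, z50, z51, z52, z53, z54, d3] at this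
    exact Cfsg.Agent.H94.HS.F4.sq_eq_one _ this
  ext i j
  fin_cases i <;> fin_cases j <;> simp [z01, z02, z03, z04, z05, z10, z12, z13, z14, z15, z20, z21, z23, z24, z25, z30, z31, z32, z34, z35, z40, z41, z42, z43, z45, z50, z51, z52, z53, z54, d1, d2, d3, d4, d5, hc]

example : Cfsg.Agent.H9.PG.StCent := cent

end Cfsg.Agent.H47.PG

#print axioms Cfsg.Agent.H47.PG.cent
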